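import Cfsg.Agent.SM.SpN.Main
import Cfsg.Agent.SM.Sp.LHS

/-!
# SM (S3570), the socle `HS` (helper95)

* `boxHS : Bnd fHS RH`.
-/

set_option autoImplicit false

namespace Cfsg.Agent.SM.SpN

/-- **The box of `HS`**: the row `(443520, 176, 2)`. -/
theorem boxHS : Bnd Sp.fHS RH := bnd_hs fun K _ _ h X Y f =>
  (by decide : ∀ p ∈ [(443520, 176), (443520, 3080), (443520, 4928), (443520, 6160), (443520, 9240), (443520, 12320),
    (443520, 18480), (443520, 22176), (443520, 24640)], p ∈ LH) _ (Sp.lst_hs K h X Y f)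

end Cfsg.Agent.SM.SpN
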