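import Cfsg.Agent.SM.SpN.Facts
import Cfsg.Agent.TH.Alt.Gen
import Cfsg.Agent.LieExceptional.SuzukiTori
import Cfsg.Agent.S1606
import Cfsg.Agent.SporadicRecognition.HSAssemble

/-!
# SM (S3570), the socle `HS`: the subgroups of index 100 (helper95)

* `HF.conj` : a subgroup of index 100 is conjugate to the image of any embedding of `M22`;
* `HF.five` : its elements of order 5 have centralisers of order 25.
-/

set_option autoImplicit false

namespace Cfsg.Agent.SM.SpN

open Cfsg Subgroup MulAction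

theorem card_m22 : Nat.card Spor.M22 = 443520 := SporadicRecognition.HSAssemble.card_M22

theorem no56 (W : Subgroup Spor.M22) : W.index ≠ 56 := fun h => by
  have h1 := W.card_mul_index
  rw [card_m22, h] at h1
  have e : SporadicStructure.M22Syl11.G0 = Spor.M22 :=
    Subgroup.ext fun g => ⟨fun h => ⟨⟨h.1, h.2.1⟩, h.2.2⟩, fun h => ⟨h.1.1, h.1.2, h.2⟩⟩
  refine (SporadicStructure.M22NoIndex.card_ne (e ▸ card_m22)
    (S1606.card_fixing_octad SporadicStructure.M22NoIndex.B_mem) (W.map Spor.M22.subtype)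
    ((map_subtype_le W).trans e.ge)).1 ?_
  rw [card_map_of_injective Spor.M22.subtype_injective]
  omega

/-- the fixed points in one orbit -/
theorem orbit_mod {G Ω : Type} [Group G] [MulAction G Ω] [Finite Ω] (ω : Ω) {p : ℕ} (hp : p.Prime) {g : G}
    (hg : g ^ p = 1) : ∃ k, k ≤ Nat.card (fixedBy Ω g) ∧ (g • ω = ω → 0 < k) ∧ (stabilizer G ω).index ≡ k [MOD p] := by
  refine ⟨Nat.card (fixedBy (orbit G ω) g), ?_, fun h => ?_, ?_⟩
  · exact Nat.card_le_card_of_injective (fun x => ⟨x.1.1, congrArg Subtype.val x.2⟩)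
      fun x y h => Subtype.ext (Subtype.ext (congrArg (fun z : fixedBy Ω g => z.1) h))
  · have : Nonempty (fixedBy (orbit G ω) g) := ⟨⟨⟨ω, mem_orbit_self ω⟩, Subtype.ext h⟩⟩
    exact Nat.card_pos
  · rw [index_stabilizer, ← Nat.card_coe_set_eq]
    exact LieExceptional.SuzukiTori.card_modEq_fixedBy hp hg

variable {K : Type} [Group K]

theorem HF.finite (h : HF K) : Finite K := Nat.finite_of_card_ne_zero (by rw [h.card]; decide)

theorem cc_le [Finite K] {p : ℕ} (hp : p.Prime) (h1 : ∀ x : K, p ∣ orderOf x → orderOf x = p) (h2 : ¬ p ^ 2 ∣ Nat.card K)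
    {x : K} (hx : orderOf x = p) : cc x ≤ p := by
  have := Fact.mk hp
  have h3 : IsPGroup p (centralizer ({x} : Set K)) := fun y => by
    refine ⟨1, Subtype.ext ?_⟩
    have hc : Commute (y : K) x := mem_centralizer_singleton_iff.1 y.2
    show (y : K) ^ p ^ 1 = 1
    rw [pow_one]
    by_cases h4 : p ∣ orderOf (y : K)
    · rw [← h1 _ h4, pow_orderOf_eq_one]
    · have h5 := hc.orderOf_mul_eq_mul_orderOf_of_coprime
        (by rw [hx]; exact ((hp.coprime_iff_not_dvd).2 h4).symm)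
      have h6 := h1 (y * x) (by rw [h5, hx]; exact dvd_mul_left _ _)
      rw [h5, hx] at h6
      have h7 : orderOf (y : K) = 1 := Nat.eq_of_mul_eq_mul_right hp.pos (by rw [h6, one_mul])
      rw [orderOf_eq_one_iff.1 h7, one_pow]
  obtain ⟨n, hn⟩ := IsPGroup.iff_card.1 h3
  have h4 : n < 2 := lt_of_not_ge fun h4 => h2 ((pow_dvd_pow p h4).trans (hn ▸ card_subgroup_dvd_card _))
  rw [cc, hn]
  calc p ^ n ≤ p ^ 1 := Nat.pow_le_pow_right hp.pos (by omega)
    _ = p := pow_one p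

theorem HF.fix_lt (h : HF K) (X : Subgroup K) {p : ℕ} (hp : p = 7 ∨ p = 11) {x : K} (hx : orderOf x = p) :
    Nat.card (fixedBy (K ⧸ X) x) < p := by
  have := h.finite
  have h1 : x ≠ 1 := by
    rintro rfl
    rw [orderOf_one] at hx
    omega
  refine (TH.Alt.card_fixedBy_lt h1).trans_le ?_
  rcases hp with rfl | rfl
  · exact cc_le (by norm_num) h.o7 (by rw [h.card]; decide) hx
  · exact cc_le (by norm_num) h.o11 (by rw [h.card]; decide) hx

theorem num_d : ∀ d ≤ 100, d ∣ 443520 → d % 11 = 1 → d % 7 ≤ 2 → d = 1 ∨ d = 56 := by decide +kernel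

/-- **The subgroups of index 100 are conjugate.** -/
theorem HF.conj (h : HF K) {f : Spor.M22 →* K} (hf : Function.Injective f) {X : Subgroup K} (hX : X.index = 100) :
    ∃ g : K, ∀ x, x ∈ X ↔ ∃ m, f m = g * x * g⁻¹ := by
  have := h.finite
  have : Finite Spor.M22 := Nat.finite_of_card_ne_zero (by rw [card_m22]; decide)
  have : Fact (Nat.Prime 7) := ⟨by norm_num⟩
  have : Fact (Nat.Prime 11) := ⟨by norm_num⟩
  obtain ⟨a, ha⟩ := exists_prime_orderOf_dvd_card' (G := Spor.M22) 11 (by rw [card_m22]; decide)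
  obtain ⟨b, hb⟩ := exists_prime_orderOf_dvd_card' (G := Spor.M22) 7 (by rw [card_m22]; decide)
  have h1 := h.fix_lt X (Or.inr rfl) ((orderOf_injective f hf a).trans ha)
  have h2 := h.fix_lt X (Or.inl rfl) ((orderOf_injective f hf b).trans hb)
  have ha1 : a ^ 11 = 1 := by rw [← ha, pow_orderOf_eq_one]
  have hb1 : b ^ 7 = 1 := by rw [← hb, pow_orderOf_eq_one]
  have h3 := LieExceptional.SuzukiTori.card_modEq_fixedBy (Ω := K ⧸ X) (p := 11) (by norm_num) (h := f a)
    (by rw [← map_pow, ha1, map_one])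
  have h4 := LieExceptional.SuzukiTori.card_modEq_fixedBy (Ω := K ⧸ X) (p := 7) (by norm_num) (h := f b)
    (by rw [← map_pow, hb1, map_one])
  have hc : Nat.card (K ⧸ X) = 100 := hX
  rw [hc] at h3 h4
  unfold Nat.ModEq at h3 h4
  obtain ⟨⟨ω, hω⟩⟩ : Nonempty (fixedBy (K ⧸ X) (f a)) := (Nat.card_ne_zero.1 (by omega)).1
  let _ : MulAction Spor.M22 (K ⧸ X) := MulAction.compHom _ f
  obtain ⟨k, k1, k2, k3⟩ := orbit_mod ω (p := 11) (by norm_num) ha1
  obtain ⟨l, l1, -, l3⟩ := orbit_mod ω (p := 7) (by norm_num) hb1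
  have k4 : k ≤ Nat.card (fixedBy (K ⧸ X) (f a)) := k1
  have l4 : l ≤ Nat.card (fixedBy (K ⧸ X) (f b)) := l1
  have k5 := k2 hω
  unfold Nat.ModEq at k3 l3
  have h5 : (stabilizer Spor.M22 ω).index ≤ 100 := by
    rw [index_stabilizer, ← hc, ← Set.ncard_univ]
    exact Set.ncard_le_ncard (Set.subset_univ _)
  have l5 : l ≤ 2 := by omega
  have h6 := (num_d _ h5 (card_m22 ▸ index_dvd_card _) (by omega)
    (l3 ▸ (Nat.mod_le _ _).trans l5)).resolve_right (no56 _)
  rw [index_eq_one] at h6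
  obtain ⟨g, rfl⟩ := QuotientGroup.mk_surjective ω
  have h7 : ∀ m, g⁻¹ * f m * g ∈ X := fun m => by
    have h8 : ((f m⁻¹ * g : K) : K ⧸ X) = g := (h6 ▸ mem_top m⁻¹ : m⁻¹ ∈ stabilizer Spor.M22 (g : K ⧸ X))
    have h9 := QuotientGroup.eq.1 h8
    rwa [mul_inv_rev, ← map_inv, inv_inv] at h9
  have h8 : ((MulAut.conj g⁻¹).toMonoidHom.comp f).range = X := by
    refine eq_of_le_of_card_ge (by rintro _ ⟨m, rfl⟩; simpa using h7 m) (le_of_eq ?_)
    rw [← Nat.card_congr (MonoidHom.ofInjective ((MulAut.conj g⁻¹).injective.comp hf :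
      Function.Injective ((MulAut.conj g⁻¹).toMonoidHom.comp f))).toEquiv, card_m22]
    have h9 := X.card_mul_index
    rw [hX, h.card] at h9
    omega
  refine ⟨g, fun x => ⟨fun hx => ?_, ?_⟩⟩
  · rw [← h8] at hx
    obtain ⟨m, rfl⟩ := hx
    exact ⟨m, by simp [mul_assoc]⟩
  · rintro ⟨m, e⟩
    have h9 := h7 m
    rwa [e, ← mul_assoc, ← mul_assoc, inv_mul_cancel, one_mul, inv_mul_cancel_right] at h9

theorem cc_conj (g x : K) : cc (g * x * g⁻¹) = cc x := cc_map (MulAut.conj g) x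

theorem HF.five (h : HF K) {X : Subgroup K} (hX : X.index = 100) {x : K} (hx : x ∈ X) (h5 : orderOf x = 5) :
    cc x = 25 := by
  obtain ⟨f, hf⟩ := h.m22
  obtain ⟨V, hV, h1⟩ := h.act
  obtain ⟨g, hg⟩ := h.conj hf hX
  obtain ⟨c, hc⟩ := h.conj hf hV
  obtain ⟨m, hm⟩ := (hg x).1 hx
  rw [← cc_conj (c⁻¹ * g)]
  exact h1 _ ((hc _).2 ⟨m, by rw [hm]; group⟩) (((MulAut.conj (c⁻¹ * g)).orderOf_eq x).trans h5)

/-- an embedding of `M22` onto `X` -/
theorem HF.emb (h : HF K) {X : Subgroup K} (hX : X.index = 100) :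
    ∃ f : Spor.M22 →* K, Function.Injective f ∧ f.range = X := by
  obtain ⟨f, hf⟩ := h.m22
  obtain ⟨g, hg⟩ := h.conj hf hX
  refine ⟨(MulAut.conj g⁻¹).toMonoidHom.comp f, (MulAut.conj g⁻¹).injective.comp hf, Subgroup.ext fun x => ?_⟩
  rw [hg]
  refine exists_congr fun m => ?_
  show g⁻¹ * f m * g⁻¹⁻¹ = x ↔ _
  constructor
  · rintro rfl
    group
  · intro e
    rw [e]
    group

end Cfsg.Agent.SM.SpN
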