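import Cfsg.Agent.TH.Spor.InD
import Cfsg.Agent.H45.Thin.Leech

/-!
# SM (S3570), the socle `HS`: what is used of the group (helper95)

* `cc x` : the order of the centraliser;
* `HF K` : the facts, `hf_of` : they hold in every group isomorphic to `HS`.
-/

set_option autoImplicit false
set_option maxRecDepth 100000

namespace Cfsg.Agent.SM.SpN

open Cfsg Subgroup Cfsg.Agent.TAB Cfsg.Agent.TAB.Eng Cfsg.Agent.TAB.Use Cfsg.Agent.TwoF.SpO

/-- the order of the centraliser -/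
noncomputable def cc {K : Type} [Group K] (x : K) : ℕ := Nat.card (centralizer ({x} : Set K))

/-- what is used of `HS` -/
structure HF (K : Type) [Group K] : Prop where
  card : Nat.card K = 44352000
  c3 : ∀ x : K, x ≠ 1 → x ^ 9 = 1 → cc x = 360
  e5 : ∀ x : K, x ^ 125 = 1 → x ^ 5 = 1
  c5 : ∀ x : K, orderOf x = 5 → cc x = 500 ∨ cc x = 300 ∨ cc x = 25
  chi : ∃ χ : K → ℂ, IsCharacter K χ ∧ χ 1 = 22 ∧ ∀ x : K, orderOf x = 5 → χ x = if cc x = 500 then -3 else 2
  o7 : ∀ x : K, 7 ∣ orderOf x → orderOf x = 7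
  o11 : ∀ x : K, 11 ∣ orderOf x → orderOf x = 11
  act : ∃ V : Subgroup K, V.index = 100 ∧ ∀ x ∈ V, orderOf x = 5 → cc x = 25
  m22 : ∃ f : Spor.M22 →* K, Function.Injective f

theorem cc_map {K L : Type} [Group K] [Group L] (e : K ≃* L) (x : K) : cc (e x) = cc x := by
  refine (Nat.card_congr (e.toEquiv.subtypeEquiv fun g => ?_)).symm
  rw [mem_centralizer_singleton_iff, mem_centralizer_singleton_iff, ← e.injective.eq_iff, map_mul, map_mul]
  rfl

theorem HF.of_equiv {K L : Type} [Group K] [Group L] (h : HF L) (e : K ≃* L) : HF K where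
  card := (Nat.card_congr e.toEquiv).trans h.card
  c3 x h1 h2 := (cc_map e x).symm.trans (h.c3 _ (by simpa using h1) (by rw [← map_pow, h2, map_one]))
  e5 x h1 := e.injective (by rw [map_pow, map_one]; exact h.e5 _ (by rw [← map_pow, h1, map_one]))
  c5 x h1 := cc_map e x ▸ h.c5 _ (by rwa [e.orderOf_eq])
  chi := by
    obtain ⟨χ, h1, h2, h3⟩ := h.chi
    exact ⟨fun x => χ (e x), Characters.Core.isCharacter_comp e.toMonoidHom h1, (congrArg χ (map_one e)).trans h2,
      fun x hx => cc_map e x ▸ h3 _ (by rwa [e.orderOf_eq])⟩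
  o7 x h1 := by simpa only [e.orderOf_eq] using h.o7 (e x) (by rwa [e.orderOf_eq])
  o11 x h1 := by simpa only [e.orderOf_eq] using h.o11 (e x) (by rwa [e.orderOf_eq])
  act := by
    obtain ⟨V, h1, h2⟩ := h.act
    exact ⟨V.comap e.toMonoidHom, (index_comap_of_surjective V e.surjective).trans h1,
      fun x hx h3 => cc_map e x ▸ h2 _ hx (by rwa [e.orderOf_eq])⟩
  m22 := by
    obtain ⟨f, hf⟩ := h.m22
    exact ⟨e.symm.toMonoidHom.comp f, e.symm.injective.comp hf⟩

section model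

open Cfsg.Agent.HN.HS100 Cfsg.Agent.TAB.HS

theorem cc_ty (x : Q) : (T.ty x = 3 → cc x = 360) ∧ (T.ty x = 7 → cc x = 300) ∧ (T.ty x = 8 → cc x = 500) ∧
    (T.ty x = 9 → cc x = 25) := by
  have h := TH.Spor.hs_one mass tabQ.2
  simp only [List.forall_mem_cons] at h
  obtain ⟨-, -, h3, h7, h8, h9, -⟩ := h
  refine ⟨fun e => ?_, fun e => ?_, fun e => ?_, fun e => ?_⟩
  · have h1 : 123200 * cc x = 44352000 := h3.card mass e
    omega
  · have h1 : 147840 * cc x = 44352000 := h7.card mass e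
    omega
  · have h1 : 88704 * cc x = 44352000 := h8.card mass e
    omega
  · have h1 : 1774080 * cc x = 44352000 := h9.card mass e
    omega

theorem ord_ty : ∀ t < 21, (D.ord t ∣ 9 → D.ord t = 1 ∨ t = 3) ∧ (D.ord t ∣ 125 → D.ord t ∣ 5) ∧
    (D.ord t = 5 → t = 7 ∨ t = 8 ∨ t = 9) ∧ (7 ∣ D.ord t → D.ord t = 7) ∧ (11 ∣ D.ord t → D.ord t = 11) := by
  decide +kernel

theorem fix_ty : ∀ i : Fin 21, i.1 = 7 ∨ i.1 = 8 → (H344.S8.HS.Iv i).getD 0 0 = 0 := by decide +kernel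

theorem hf_Q : HF Q where
  card := mass.1
  c3 x h1 h2 := by
    have h3 := (ord_ty _ (T.lt x)).1
    rw [← T.ord] at h3
    exact (cc_ty x).1 ((h3 (orderOf_dvd_of_pow_eq_one h2)).resolve_left fun e => h1 (orderOf_eq_one_iff.1 e))
  e5 x h1 := by
    have h3 := (ord_ty _ (T.lt x)).2.1
    rw [← T.ord] at h3
    exact orderOf_dvd_iff_pow_eq_one.1 (h3 (orderOf_dvd_of_pow_eq_one h1))
  c5 x h1 := by
    have h3 := (ord_ty _ (T.lt x)).2.2.1
    rw [← T.ord] at h3
    rcases h3 h1 with e | e | e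
    exacts [Or.inr (Or.inl ((cc_ty x).2.1 e)), Or.inl ((cc_ty x).2.2.1 e), Or.inr (Or.inr ((cc_ty x).2.2.2 e))]
  chi := by
    obtain ⟨χ, h1, h2⟩ := irr_mkRows tabQ.2 [22, -2, 6, 4, -6, 2, 2, 2, -3, 2, -2, 0, 1, 0, 0, 1, -2, 0, 0, -1, -1]
      (List.mem_cons_of_mem _ List.mem_cons_self)
    refine ⟨χ, Characters.Core.isIrr_isCharacter h1, ?_, fun x hx => ?_⟩
    · have h3 : T.ty 1 = 0 := congrArg Fin.val H344.S8.HS.cl_one
      rw [h2, h3]
      norm_num [nth]
    · have h3 := (ord_ty _ (T.lt x)).2.2.1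
      rw [← T.ord] at h3
      rcases h3 hx with e | e | e
      · rw [h2, e, (cc_ty x).2.1 e, if_neg (by decide)]
        exact_mod_cast (by decide +kernel : nth _ 7 = 2)
      · rw [h2, e, (cc_ty x).2.2.1 e, if_pos rfl]
        exact_mod_cast (by decide +kernel : nth _ 8 = -3)
      · rw [h2, e, (cc_ty x).2.2.2 e, if_neg (by decide)]
        exact_mod_cast (by decide +kernel : nth _ 9 = 2)
  o7 x h1 := by
    have h3 := (ord_ty _ (T.lt x)).2.2.2.1
    rw [← T.ord] at h3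
    exact h3 h1
  o11 x h1 := by
    have h3 := (ord_ty _ (T.lt x)).2.2.2.2
    rw [← T.ord] at h3
    exact h3 h1
  act := by
    have := trans_Q
    refine ⟨MulAction.stabilizer Q (0 : Fin 100), ?_, fun x hx h1 => ?_⟩
    · rw [MulAction.index_stabilizer_of_transitive, Nat.card_eq_fintype_card, Fintype.card_fin]
    · have h3 := (ord_ty _ (T.lt x)).2.2.1
      rw [← T.ord] at h3
      have h4 : Nat.card (MulAction.fixedBy (Fin 100) x) ≠ 0 := Nat.card_ne_zero.2 ⟨⟨⟨0, hx⟩⟩, inferInstance⟩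
      rw [H344.S8.HS.fix_eq] at h4
      rcases h3 h1 with e | e | e
      exacts [(h4 (fix_ty _ (Or.inl e))).elim, (h4 (fix_ty _ (Or.inr e))).elim, (cc_ty x).2.2.2 e]
  m22 := by
    obtain ⟨e⟩ := isoQ
    exact ⟨e.symm.toMonoidHom.comp H45.Thin.Leech.embH, e.symm.injective.comp H45.Thin.Leech.embH_injective⟩

end model

theorem hf_of {K : Type} [Group K] (h : Spor.IsoHS K) : HF K := by
  obtain ⟨e⟩ := h
  obtain ⟨f⟩ := TAB.HS.isoQ
  exact hf_Q.of_equiv (e.trans f.symm)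

end Cfsg.Agent.SM.SpN
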