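import Cfsg.Agent.SM.SpN.Loc
import Cfsg.Agent.SM.SpN.Conj

/-!
# SM (S3570), the socle `HS`: the second factor (helper95)

* `HF.lf` : the 5-local facts hold;
* `HF.not_card` : orders which no subgroup has;
* `HF.uniq` : a subgroup of order 252000 is determined by a subgroup of order 2520 which fixes one of the 100 points.
-/

set_option autoImplicit false

namespace Cfsg.Agent.SM.SpN

open Cfsg Subgroup MulAction

attribute [local instance] f5

/-- the type `5A` -/
def A5 {K : Type} [Group K] (z : K) : Prop := orderOf z = 5 ∧ cc z = 500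

theorem four_dvd {G : Type} [Group G] [Finite G] (S : Finset G) (h1 : ∀ x ∈ S, orderOf x = 5)
    (h2 : ∀ x ∈ S, ∀ y ∈ zpowers x, y ≠ 1 → y ∈ S) : 4 ∣ S.card := by
  classical
  have := Fintype.ofFinite G
  rw [Finset.card_eq_sum_card_image (fun x => zpowers x) S]
  refine Finset.dvd_sum fun Z hZ => ?_
  obtain ⟨x, hx, rfl⟩ := Finset.mem_image.1 hZ
  have h3 : (S.filter fun y => zpowers y = zpowers x) = (Finset.univ.filter fun y => y ∈ zpowers x).erase 1 := by
    ext y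
    simp only [Finset.mem_filter, Finset.mem_erase, Finset.mem_univ, true_and]
    refine ⟨fun h => ⟨fun e => ?_, h.2 ▸ mem_zpowers y⟩, fun h => ⟨h2 x hx y h.2 h.1, le_antisymm (zpowers_le.2 h.2)
      (zpowers_le.2 (mem_zpowers_of (h1 x hx) h.2 h.1))⟩⟩
    have h4 := h1 y h.1
    rw [e, orderOf_one] at h4
    omega
  rw [h3, Finset.card_erase_of_mem (by simp), ← Fintype.card_subtype, ← Nat.card_eq_fintype_card, Nat.card_zpowers,
    h1 x hx]

variable {K : Type} [Group K]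

theorem A5.of_mem [Finite K] {z y : K} (hz : A5 z) (hy : y ∈ zpowers z) (h1 : y ≠ 1) : A5 y := by
  obtain ⟨k, hk⟩ := mem_zpowers_of hz.1 hy h1
  obtain ⟨l, hl⟩ := hy
  refine ⟨orderOf_eq_prime ?_ h1, Eq.trans ?_ hz.2⟩
  · rw [← hl, ← zpow_natCast, ← zpow_mul, mul_comm, zpow_mul, zpow_natCast, ← hz.1, pow_orderOf_eq_one, one_zpow]
  · refine congrArg (fun C : Subgroup K => Nat.card C) (Subgroup.ext fun g => ?_)
    rw [mem_centralizer_singleton_iff, mem_centralizer_singleton_iff]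
    exact ⟨fun h => hk ▸ (Commute.zpow_right h k).eq, fun h => hl ▸ (Commute.zpow_right h l).eq⟩

theorem HF.cnt (h : HF K) {D : Subgroup K} (hD : Nat.card D = 25) : {x : D | A5 (x : K)}.ncard = 4 := by
  classical
  have := h.finite
  have := Fintype.ofFinite D
  obtain ⟨χ, h1, h2, h3⟩ := h.chi
  obtain ⟨m, hm⟩ := Characters.Core.classInner_isNat (Characters.Core.isCharacter_comp D.subtype h1)
    Characters.Core.isCharacter_one
  have h4 : ∀ x : D, χ x = 2 + (if x = 1 then 20 else 0) - 5 * if A5 (x : K) then 1 else 0 := fun x => by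
    by_cases hx : x = 1
    · rw [if_pos hx, if_neg, hx, coe_one, h2]
      · norm_num
      · rintro ⟨e, -⟩
        rw [hx, coe_one, orderOf_one] at e
        omega
    · have h5 : orderOf (x : K) = 5 := orderOf_eq_prime (h.e5 _ (by
        rw [show 125 = 25 * 5 from rfl, pow_mul, ← hD, ← coe_pow, pow_card_eq_one', coe_one, one_pow]))
        fun e => hx (Subtype.ext e)
      rw [h3 _ h5, if_neg hx]
      by_cases h6 : cc (x : K) = 500
      · rw [if_pos h6, if_pos ⟨h5, h6⟩]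
        norm_num
      · rw [if_neg h6, if_neg fun e => h6 e.2]
        norm_num
  rw [Characters.Core.classInner_def, hD] at hm
  have hm' : ((25 : ℕ) : ℂ)⁻¹ * ∑ x : D, χ x = m := by simpa using hm
  simp only [h4, Finset.sum_sub_distrib, Finset.sum_add_distrib,
    Finset.sum_const, Finset.card_univ, Finset.sum_ite_eq', Finset.mem_univ, if_true, ← Finset.mul_sum,
    Finset.sum_boole, ← Nat.card_eq_fintype_card, hD] at hm'
  have h5 := four_dvd (Finset.univ.filter fun x : D => A5 (x : K))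
    (fun x hx => (orderOf_coe x).symm.trans (Finset.mem_filter.1 hx).2.1) fun x hx y hy h0 =>
      Finset.mem_filter.2 ⟨Finset.mem_univ _, (Finset.mem_filter.1 hx).2.of_mem
        (by obtain ⟨k, rfl⟩ := hy; exact ⟨k, rfl⟩) fun e => h0 (Subtype.ext e)⟩
  rw [← Set.coe_toFinset {x : D | A5 (x : K)}, Set.ncard_coe_finset, Set.toFinset_ofPred]
  generalize (Finset.univ.filter fun x : D => A5 (x : K)).card = a at h5 hm' ⊢
  have h6 : ((70 : ℕ) : ℂ) = (25 * m + 5 * a : ℕ) := by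
    rw [nsmul_eq_mul] at hm'
    push_cast at hm' ⊢
    linear_combination 25 * hm'
  have h7 := Nat.cast_injective h6
  omega

theorem HF.lf (h : HF K) : LF K A5 where
  conj g z hz := ⟨((MulAut.conj g).orderOf_eq z).trans hz.1, (cc_conj g z).trans hz.2⟩
  ord z hz := hz.1
  cA z hz := hz.2.dvd
  cB y h1 h2 := by
    rcases h.c5 y h1 with e | e | e
    exacts [(h2 ⟨h1, e⟩).elim, e.dvd, e.dvd.trans (by decide)]
  c3 t h1 h2 := (h.c3 t h1 h2).dvd
  e5 := h.e5
  ex D hD := by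
    obtain ⟨x, hx⟩ := Set.nonempty_of_ncard_ne_zero ((h.cnt hD).trans_ne (by decide))
    exact ⟨x, x.2, hx⟩
  un z w hz hw hc := by
    have := h.finite
    by_contra hn
    have h1 : Disjoint (zpowers z).subtype.range (zpowers w).subtype.range := by
      rw [range_subtype, range_subtype, disjoint_def]
      intro y hy hy'
      by_contra h0
      exact hn (zpowers_le.2 hy (mem_zpowers_of hw.1 hy' h0))
    have hcm : ∀ (a : zpowers z) (b : zpowers w), Commute ((zpowers z).subtype a) ((zpowers w).subtype b) := by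
      rintro ⟨_, k, rfl⟩ ⟨_, l, rfl⟩
      exact Commute.zpow_zpow hc.symm k l
    have h2 := (MonoidHom.noncommCoprod_injective _ _ hcm).2 ⟨subtype_injective _, subtype_injective _, h1⟩
    obtain ⟨D, hD, hzD, hwD⟩ : ∃ D : Subgroup K, Nat.card D = 25 ∧ z ∈ D ∧ w ∈ D :=
      ⟨(MonoidHom.noncommCoprod _ _ hcm).range, by
        rw [← Nat.card_congr (MonoidHom.ofInjective h2).toEquiv, Nat.card_prod, Nat.card_zpowers, Nat.card_zpowers,
          hz.1, hw.1], ⟨(⟨z, mem_zpowers z⟩, 1), by simp⟩, ⟨(1, ⟨w, mem_zpowers w⟩), by simp⟩⟩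
    have h3 : ((zpowers (⟨z, hzD⟩ : D) : Set D) \ {1}).ncard = 4 := by
      rw [Set.ncard_sdiff_singleton_of_mem (zpowers _).one_mem, ← Nat.card_coe_set_eq]
      exact congrArg (· - 1) ((Nat.card_zpowers _).trans ((orderOf_coe (⟨z, hzD⟩ : D)).symm.trans hz.1))
    have h4 := Set.eq_of_subset_of_ncard_le (s := (zpowers (⟨z, hzD⟩ : D) : Set D) \ {1}) (t := {x : D | A5 (x : K)})
      (fun x hx => hz.of_mem (by obtain ⟨k, rfl⟩ := hx.1; exact ⟨k, rfl⟩) fun e => hx.2 (Subtype.ext e))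
      ((h.cnt hD).trans h3.symm).le
    obtain ⟨k, hk⟩ := (h4.ge (show (⟨w, hwD⟩ : D) ∈ {x : D | A5 (x : K)} from hw)).1
    exact hn ⟨k, congrArg Subtype.val hk⟩
  dvd := h.card.dvd

theorem num_big : ∀ c ∈ [120, 90, 60, 45], ∀ m ∈ Nat.divisors 2000, m ∣ 100 * c → 100 * c / m % 25 ≠ 1 := by
  decide +kernel

theorem num_small : ∀ c ∈ [144, 96, 72, 48, 36, 24, 18], ∀ m ∈ Nat.divisors 2000, m ∣ 100 * c → 25 ∣ m → m ≠ 25 →
    ¬ (100 * c / m % 25 = 1 ∨ 2 ≤ 100 * c / m % 25 ∧ 100 * c / m % 25 ≤ 6 ∧ (100 * c / m < 25 → 100 * c ∣ 1200)) := by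
  decide +kernel

/-- **Orders which do not occur.** -/
theorem HF.not_card (h : HF K) (Y : Subgroup K) {c : ℕ} (hc : c ∈ [120, 90, 60, 45, 144, 96, 72, 48, 36, 24, 18]) :
    Nat.card Y ≠ 100 * c := fun hY => by
  have := h.finite
  rcases List.mem_append.1 (show c ∈ [120, 90, 60, 45] ++ [144, 96, 72, 48, 36, 24, 18] from hc) with hc | hc
  · obtain ⟨n, m, h1, h2, h3⟩ := (h.lf.sub Y).big
      (hY ▸ (by decide : ∀ c ∈ [120, 90, 60, 45], 125 ∣ 100 * c) c hc)
    rw [hY] at h1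
    refine num_big c hc m (Nat.mem_divisors.2 ⟨h3, by decide⟩) (Dvd.intro_left _ h1) ?_
    rwa [← h1, Nat.mul_div_cancel _ (Nat.pos_of_dvd_of_pos h3 (by decide))]
  · have h0 := (by decide : ∀ c ∈ [144, 96, 72, 48, 36, 24, 18], 25 ∣ 100 * c ∧ ¬ 125 ∣ 100 * c ∧ 3 ∣ 100 * c) c hc
    rw [← hY] at h0
    obtain ⟨n, m, h1, h2, h3, h4, h5⟩ := (h.lf.sub Y).small h0.1 h0.2.1 h0.2.2
    rw [hY] at h1 h5
    refine num_small c hc m (Nat.mem_divisors.2 ⟨h2, by decide⟩) (Dvd.intro_left _ h1) h3 h4 ?_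
    rwa [← h1, Nat.mul_div_cancel _ (Nat.pos_of_dvd_of_pos h2 (by decide)), h1]

theorem HF.exists_P (h : HF K) {B : Subgroup K} (hB : Nat.card B = 252000) {x : K} (hx : x ∈ B) (h5 : orderOf x = 5) :
    ∃ (P : Subgroup K) (z : K), P ≤ B ∧ Nat.card P = 125 ∧ A5 z ∧ x * z = z * x ∧ ∀ g ∈ P, g * z = z * g := by
  have := h.finite
  have h1 : IsPGroup 5 (zpowers (⟨x, hx⟩ : B)) :=
    IsPGroup.of_card (n := 1) ((Nat.card_zpowers _).trans ((orderOf_coe _).symm.trans h5))
  obtain ⟨P, hP⟩ := h1.exists_le_sylow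
  have h2 : Nat.card P = 125 := by
    rw [P.card_eq_multiplicity, hB]
    decide +kernel
  obtain ⟨z, -, h3, h4⟩ := (h.lf.sub B).exists_z P h2
  refine ⟨(P : Subgroup B).map B.subtype, z, map_subtype_le _, (card_map_of_injective B.subtype_injective).trans h2, h3,
    congrArg Subtype.val (h4 _ (hP (mem_zpowers _))), ?_⟩
  rintro _ ⟨g, hg, rfl⟩
  exact congrArg Subtype.val (h4 g hg)

theorem HF.le_of (h : HF K) {B C : Subgroup K} (hB : Nat.card B = 252000) (h1 : 63000 ∣ Nat.card ↥(B ⊓ C)) {g : K}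
    (hg : g ∈ B) (h5 : g ^ 5 = 1) : g ∈ C := by
  have := h.finite
  have h2 := (C.subgroupOf B).card_mul_index
  rw [← inf_subgroupOf_left, Nat.card_congr (subgroupOfEquivOfLe (inf_le_left : B ⊓ C ≤ B)).toEquiv,
    inf_subgroupOf_left, hB] at h2
  obtain ⟨k, hk⟩ := h1
  have h3 : (C.subgroupOf B).index ∣ 4 :=
    Dvd.intro_left k (Nat.eq_of_mul_eq_mul_left (show 0 < 63000 by decide) (by rw [← mul_assoc, ← hk, h2]))
  have h4 := pow_mem_of_index_ne_zero_of_dvd (H := C.subgroupOf B) index_ne_zero_of_finite ⟨g, hg⟩ (n := 36)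
    fun m h0 hm => (by decide : ∀ m ≤ 4, 0 < m → m ∣ 36) m (hm.trans (Nat.le_of_dvd (by decide) h3)) h0
  have h6 : g ^ 36 ∈ C := h4
  rwa [show 36 = 5 * 7 + 1 from rfl, pow_succ, pow_mul, h5, one_pow, one_mul] at h6

/-- **The second factor is determined by the intersection.** -/
theorem HF.uniq (h : HF K) {X A B C : Subgroup K} (hX : X.index = 100) (hAX : A ≤ X) (hA : Nat.card A = 2520)
    (hAB : A ≤ B) (hAC : A ≤ C) (hB : Nat.card B = 252000) (hC : Nat.card C = 252000) (hl : Sp.Lc ⊤ B) : B = C := by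
  have := h.finite
  obtain ⟨x, hx⟩ := exists_prime_orderOf_dvd_card' (G := A) 5 (by rw [hA]; decide)
  have x5 : orderOf (x : K) = 5 := (orderOf_coe x).trans hx
  obtain ⟨P, z, p1, p2, p3, p4, p5⟩ := h.exists_P hB (hAB x.2) x5
  obtain ⟨Q, w, q1, q2, q3, q4, q5⟩ := h.exists_P hC (hAC x.2) x5
  obtain ⟨k, hk⟩ := h.lf.un z w p3 q3 (comm25 (h.five hX (hAX x.2) x5) (mem_centralizer_singleton_iff.2 q4.symm)
    (mem_centralizer_singleton_iff.2 p4.symm))
  have hi : ∀ R : Subgroup K, Nat.card R = 125 → Nat.card R = 5 ^ (Nat.card K).factorization 5 := fun R hR => by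
    rw [hR, h.card]
    decide +kernel
  have e : Sylow.ofCard P (hi P p2) = Sylow.ofCard Q (hi Q q2) := h.lf.syl_eq q3.2.dvd
    (fun g hg => hk ▸ (Commute.zpow_right (p5 g hg) k).eq) q5
  obtain rfl : P = Q := congrArg Sylow.toSubgroup e
  have h1 : 63000 ∣ Nat.card ↥(B ⊓ C) :=
    Nat.Coprime.mul_dvd_of_dvd_of_dvd (show Nat.Coprime 504 125 by norm_num)
      ((show 504 ∣ Nat.card A from hA ▸ by decide).trans (card_dvd_of_le (le_inf hAB hAC)))
      (p2 ▸ card_dvd_of_le (le_inf p1 q1))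
  let R : Subgroup B := closure {g | g ^ 5 = 1}
  have r1 : R.Characteristic := characteristic_iff_map_le.2 fun φ => by
    rw [MonoidHom.map_closure]
    refine closure_mono ?_
    rintro _ ⟨g, hg, rfl⟩
    show φ g ^ 5 = 1
    rw [← map_pow, hg, map_one]
  have r2 : R ≠ ⊥ := fun e => by
    have h2 : (⟨x, hAB x.2⟩ : B) ∈ R := subset_closure (Subtype.ext (by
      show (x : K) ^ 5 = 1
      rw [← x5, pow_orderOf_eq_one]))
    rw [e, mem_bot] at h2
    rw [show (x : K) = 1 from congrArg Subtype.val h2, orderOf_one] at x5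
    omega
  have r3 : ∀ g ∈ C, ∀ y ∈ R.map B.subtype, g * y * g⁻¹ ∈ R.map B.subtype := fun g hg => by
    have h2 : R.map B.subtype ≤ (R.map B.subtype).comap (MulAut.conj g).toMonoidHom := by
      rw [MonoidHom.map_closure, closure_le]
      rintro _ ⟨y, hy, rfl⟩
      have y5 : (y : K) ^ 5 = 1 := congrArg Subtype.val hy
      have h3 : (g * y * g⁻¹) ^ 5 = 1 := by rw [conj_pow, y5, mul_one, mul_inv_cancel]
      have h4 : g * y * g⁻¹ ∈ B := h.le_of hC (inf_comm B C ▸ h1)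
        (mul_mem (mul_mem hg (h.le_of hB h1 y.2 y5)) (inv_mem hg)) h3
      exact subset_closure ⟨⟨_, h4⟩, Subtype.ext h3, rfl⟩
    exact fun y hy => h2 hy
  refine (eq_of_le_of_card_ge (fun g hg => hl R r1 r2 ⟨mem_top g, ?_⟩) (hB.trans hC.symm).le).symm
  exact mem_normalizer_iff.2 fun y => ⟨r3 g hg y, fun hy => by simpa [mul_assoc] using r3 _ (inv_mem hg) _ hy⟩

end Cfsg.Agent.SM.SpN
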