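import Cfsg.Agent.SM.SpN.Facts
import Cfsg.Agent.SM.Sp.Red
import Cfsg.Agent.SP.Mon.Odd.Gen
import Cfsg.Agent.H401.Orb
import Cfsg.Agent.SmallSimple.SylowInter

/-!
# SM (S3570), the socle `HS`: the Sylow 5-subgroups of a subgroup (helper95)

* `LF G A` : the 5-local facts (`A` : the elements of type `5A`), inherited by subgroups;
* `LF.big`, `LF.small` : the number of Sylow 5-subgroups for `|G|₅ = 125`, `|G|₅ = 25`.
-/

set_option autoImplicit false

namespace Cfsg.Agent.SM.SpN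

open Cfsg Subgroup MulAction

/-- the 5-local facts -/
structure LF (G : Type) [Group G] (A : G → Prop) : Prop where
  conj : ∀ g z, A z → A (g * z * g⁻¹)
  ord : ∀ z, A z → orderOf z = 5
  cA : ∀ z, A z → cc z ∣ 500
  cB : ∀ y, orderOf y = 5 → ¬ A y → cc y ∣ 300
  c3 : ∀ t : G, t ≠ 1 → t ^ 9 = 1 → cc t ∣ 360
  e5 : ∀ x : G, x ^ 125 = 1 → x ^ 5 = 1
  ex : ∀ D : Subgroup G, Nat.card D = 25 → ∃ z ∈ D, A z
  un : ∀ z w, A z → A w → w * z = z * w → w ∈ zpowers z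
  dvd : Nat.card G ∣ 44352000

variable {G : Type} [Group G] {A : G → Prop}

theorem cc_sub (Y : Subgroup G) (x : Y) : cc x ∣ cc (x : G) := by
  rw [cc, ← card_map_of_injective Y.subtype_injective]
  refine card_dvd_of_le ?_
  rintro _ ⟨g, hg, rfl⟩
  exact mem_centralizer_singleton_iff.2 (congrArg Subtype.val (mem_centralizer_singleton_iff.1 hg))

theorem LF.sub (h : LF G A) (Y : Subgroup G) : LF Y fun x => A x where
  conj g z := h.conj g z
  ord z hz := (orderOf_coe z).symm.trans (h.ord z hz)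
  cA z hz := (cc_sub Y z).trans (h.cA z hz)
  cB y h1 h2 := (cc_sub Y y).trans (h.cB y ((orderOf_coe y).trans h1) h2)
  c3 t h1 h2 := (cc_sub Y t).trans (h.c3 t (fun e => h1 (Subtype.ext e)) (congrArg Subtype.val h2))
  e5 x h1 := Subtype.ext (h.e5 x (congrArg Subtype.val h1))
  ex D hD := by
    obtain ⟨_, ⟨z, hz, rfl⟩, h1⟩ := h.ex (D.map Y.subtype) ((card_map_of_injective Y.subtype_injective).trans hD)
    exact ⟨z, hz, h1⟩
  un z w h1 h2 h3 := by
    obtain ⟨k, hk⟩ := h.un z w h1 h2 (congrArg Subtype.val h3)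
    exact ⟨k, Subtype.ext hk⟩
  dvd := (card_subgroup_dvd_card Y).trans h.dvd

/-- the prime 5 -/
theorem f5 : Fact (Nat.Prime 5) := ⟨by norm_num⟩

attribute [local instance] f5

variable [Finite G]

theorem comm25 {D : Subgroup G} (hD : Nat.card D = 25) {a b : G} (ha : a ∈ D) (hb : b ∈ D) : a * b = b * a :=
  congrArg Subtype.val (Sp.Rd.comm_of_card (p := 5) (k := 2) hD le_rfl (⟨a, ha⟩ : D) ⟨b, hb⟩)

theorem mem_zpowers_of {a b : G} (ha : orderOf a = 5) (hb : b ∈ zpowers a) (h1 : b ≠ 1) : a ∈ zpowers b := by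
  have h2 : zpowers b ≤ zpowers a := zpowers_le.2 hb
  have h3 := card_dvd_of_le h2
  rw [Nat.card_zpowers, Nat.card_zpowers, ha, Nat.dvd_prime (by norm_num)] at h3
  rw [eq_of_le_of_card_ge h2 (by
    rw [Nat.card_zpowers, Nat.card_zpowers, ha, h3.resolve_left fun e => h1 (orderOf_eq_one_iff.1 e)])]
  exact mem_zpowers a

/-- two independent elements generate a group of order 25 -/
theorem le25 {D J : Subgroup G} (hD : Nat.card D = 25) {a b : G} (ha : a ∈ D) (hb : b ∈ D) (h5 : orderOf a = 5)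
    (hn : b ∉ zpowers a) (haJ : a ∈ J) (hbJ : b ∈ J) : D ≤ J := by
  have h1 : Nat.card ↥(D ⊓ J) ∣ 5 ^ 2 := (card_dvd_of_le inf_le_left).trans hD.dvd
  have h2 : zpowers a ≤ D ⊓ J := zpowers_le.2 ⟨ha, haJ⟩
  have h3 : Nat.card (zpowers a) < Nat.card ↥(D ⊓ J) :=
    lt_of_not_ge fun h3 => hn (eq_of_le_of_card_ge h2 h3 ▸ ⟨hb, hbJ⟩)
  rw [Nat.card_zpowers, h5] at h3
  obtain ⟨i, hi, h4⟩ := (Nat.dvd_prime_pow (by norm_num)).1 h1
  have h5 : Nat.card D ≤ Nat.card ↥(D ⊓ J) := by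
    rw [hD, h4]
    rw [h4] at h3
    interval_cases i <;> simp_all
  exact (eq_of_le_of_card_ge inf_le_left h5).ge.trans inf_le_right

theorem card_norm {y : G} (hy : orderOf y = 5) {N : Subgroup G} (hN : ∀ g ∈ N, g * y * g⁻¹ ∈ zpowers y) :
    Nat.card N ∣ 4 * cc y := by
  have h1 : ((zpowers y : Set G) \ {1}).ncard = 4 := by
    rw [Set.ncard_sdiff_singleton_of_mem (zpowers y).one_mem, ← Nat.card_coe_set_eq]
    exact congrArg (· - 1) ((Nat.card_zpowers y).trans hy)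
  rw [← h1]
  refine SP.Mon.Odd.card_dvd_mul (X := (zpowers y : Set G) \ {1})
    (fun g hg x hx => ⟨?_, fun e => hx.2 (by simpa using e)⟩) fun x hx => ?_
  · obtain ⟨k, rfl⟩ := hx.1
    show g * y ^ k * g⁻¹ ∈ zpowers y
    rw [← conj_zpow]
    exact zpow_mem (hN g hg) k
  · refine card_dvd_of_le (inf_le_right.trans fun g hg => ?_)
    obtain ⟨k, hk⟩ := mem_zpowers_of hy hx.1 hx.2
    rw [mem_centralizer_singleton_iff, ← hk]
    exact (Commute.zpow_right (mem_centralizer_singleton_iff.1 hg) k).eq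

theorem syl_one {c : ℕ} (h : Nat.card G ∣ 125 * c) (hc : c ∣ 4) : Subsingleton (Sylow 5 G) := by
  obtain ⟨P⟩ : Nonempty (Sylow 5 G) := inferInstance
  have h1 := P.card_dvd_index.trans (P : Subgroup G).index_dvd_card
  have h2 := card_sylow_modEq_one 5 G
  have h3 : (Nat.card (Sylow 5 G)).Coprime (5 ^ 3) := by
    refine Nat.Coprime.pow_right _ (Nat.Coprime.symm ((Nat.Prime.coprime_iff_not_dvd (by norm_num)).2 ?_))
    unfold Nat.ModEq at h2
    omega
  have h4 := Nat.le_of_dvd (by norm_num) ((h3.dvd_of_dvd_mul_left (h1.trans h)).trans hc)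
  unfold Nat.ModEq at h2
  exact (Nat.card_eq_one_iff_unique.1 (by omega)).1

/-- if the centraliser of `z` has one Sylow subgroup, then a Sylow subgroup in it contains the 5-elements -/
theorem mem_syl {z : G} (hz : cc z ∣ 500) (P : Sylow 5 G) (hP : ∀ g ∈ P, g * z = z * g) {g : G} (h1 : g * z = z * g)
    (h2 : g ^ 5 = 1) : g ∈ P := by
  have := syl_one (G := centralizer ({z} : Set G)) (c := 4) hz dvd_rfl
  have hle : (P : Subgroup G) ≤ centralizer {z} := fun g hg => mem_centralizer_singleton_iff.2 (hP g hg)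
  let x : centralizer ({z} : Set G) := ⟨g, mem_centralizer_singleton_iff.2 h1⟩
  have h3 : IsPGroup 5 (zpowers x) := by
    rintro ⟨_, k, rfl⟩
    refine ⟨1, Subtype.ext (Subtype.ext ?_)⟩
    show (g ^ k) ^ 5 ^ 1 = 1
    rw [pow_one, ← zpow_natCast, ← zpow_mul, mul_comm, zpow_mul, zpow_natCast, h2, one_zpow]
  obtain ⟨Q, hQ⟩ := h3.exists_le_sylow
  rw [Subsingleton.elim Q (P.subtype hle)] at hQ
  exact hQ (mem_zpowers x)

theorem LF.pow5 (h : LF G A) (P : Sylow 5 G) {g : G} (hg : g ∈ P) : g ^ 5 = 1 := by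
  obtain ⟨n, hn⟩ := IsPGroup.iff_card.1 P.isPGroup'
  have h1 : n ≤ 3 := le_of_not_gt fun h1 => absurd
    (((pow_dvd_pow 5 h1).trans (hn ▸ card_subgroup_dvd_card _)).trans h.dvd) (by decide)
  have h2 : g ^ Nat.card P = 1 := congrArg Subtype.val (pow_card_eq_one' (x := (⟨g, hg⟩ : P)))
  exact h.e5 g (orderOf_dvd_iff_pow_eq_one.1 ((orderOf_dvd_of_pow_eq_one h2).trans (hn ▸ pow_dvd_pow 5 h1)))

theorem LF.ord5 (h : LF G A) (P : Sylow 5 G) {g : G} (hg : g ∈ P) (h1 : g ≠ 1) : orderOf g = 5 :=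
  orderOf_eq_prime (h.pow5 P hg) h1

theorem LF.syl_eq (h : LF G A) {z : G} (hz : cc z ∣ 500) {P Q : Sylow 5 G} (hP : ∀ g ∈ P, g * z = z * g)
    (hQ : ∀ g ∈ Q, g * z = z * g) : P = Q :=
  Sylow.ext (le_antisymm (fun _ hg => mem_syl hz Q hQ (hP _ hg) (h.pow5 P hg))
    fun _ hg => mem_syl hz P hP (hQ _ hg) (h.pow5 Q hg))

/-- a Sylow subgroup of order 125 has a central element of type `A` -/
theorem LF.exists_z (h : LF G A) (P : Sylow 5 G) (hP : Nat.card P = 125) : ∃ z ∈ P, A z ∧ ∀ g ∈ P, g * z = z * g := by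
  have : Nontrivial P := Finite.one_lt_card_iff_nontrivial.1 (by rw [hP]; norm_num)
  have := P.isPGroup'.center_nontrivial
  obtain ⟨⟨z, hz⟩, h1⟩ := exists_ne (1 : center P)
  have h2 : ∀ g ∈ P, g * z = z * g := fun g hg => congrArg Subtype.val (mem_center_iff.1 hz ⟨g, hg⟩)
  refine ⟨z, z.2, by_contra fun h3 => ?_, h2⟩
  have h4 := h.cB z (h.ord5 P z.2 fun e => h1 (Subtype.ext (Subtype.ext e))) h3
  have h5 : Nat.card P ∣ cc (z : G) := card_dvd_of_le fun g hg => mem_centralizer_singleton_iff.2 (h2 g hg)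
  exact absurd (h5.trans h4) (by rw [hP]; decide)

theorem LF.norm_dvd (h : LF G A) (P : Sylow 5 G) {z : G} (hz : z ∈ P) (hA : A z) (hc : ∀ g ∈ P, g * z = z * g) :
    Nat.card (normalizer (P : Set G)) ∣ 2000 :=
  (card_norm (h.ord z hA) fun g hg => h.un _ _ hA (h.conj g z hA)
    (hc _ ((mem_normalizer_iff.1 hg z).1 hz))).trans (Nat.mul_dvd_mul_left 4 (h.cA z hA))

/-- **Sylow subgroups of order 125** -/
theorem LF.big (h : LF G A) (h1 : 125 ∣ Nat.card G) : ∃ n m, n * m = Nat.card G ∧ n % 25 = 1 ∧ m ∣ 2000 := by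
  have hc : ∀ P : Sylow 5 G, Nat.card P = 125 := fun P => by
    obtain ⟨n, hn⟩ := IsPGroup.iff_card.1 P.isPGroup'
    have h2 : n ≤ 3 := le_of_not_gt fun h1 => absurd
      (((pow_dvd_pow 5 h1).trans (hn ▸ card_subgroup_dvd_card _)).trans h.dvd) (by decide)
    exact Nat.dvd_antisymm (hn ▸ pow_dvd_pow 5 h2) (P.pow_dvd_card_of_pow_dvd_card (n := 3) h1)
  obtain ⟨P⟩ : Nonempty (Sylow 5 G) := inferInstance
  obtain ⟨z, hz, hA, hzc⟩ := h.exists_z P (hc P)
  refine ⟨Nat.card (Sylow 5 G), _, by rw [P.card_eq_index_normalizer, index_mul_card], by_contra fun h2 => ?_,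
    h.norm_dvd P hz hA hzc⟩
  obtain ⟨R, hR, h3⟩ := SmallSimple.SylowInter.exists_ne_pow_dvd_card_inf 5 2 3 h2 P (hc P)
  obtain ⟨E, hE⟩ := Sylow.exists_subgroup_card_pow_prime 5 h3
  obtain ⟨_, ⟨w, -, rfl⟩, hw⟩ := h.ex (E.map (Subgroup.subtype _)) ((card_map_of_injective (subtype_injective _)).trans hE)
  have key : ∀ Q : Sylow 5 G, (w : G) ∈ Q → ∀ g ∈ Q, g * w = w * g := fun Q hQ g hg => by
    obtain ⟨u, -, hu, huc⟩ := h.exists_z Q (hc Q)
    obtain ⟨k, hk⟩ := h.un u w hu hw (huc _ hQ)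
    rw [← hk]
    exact (Commute.zpow_right (huc g hg) k).eq
  exact hR (h.syl_eq (h.cA _ hw) (key P w.2.1) (key R w.2.2))

theorem LF.card25 (h1 : 25 ∣ Nat.card G) (h2 : ¬ 125 ∣ Nat.card G) (P : Sylow 5 G) : Nat.card P = 25 := by
  obtain ⟨n, hn⟩ := IsPGroup.iff_card.1 P.isPGroup'
  have h3 : n ≤ 2 := le_of_not_gt fun h1 => h2 ((pow_dvd_pow 5 h1).trans (hn ▸ card_subgroup_dvd_card _))
  exact Nat.dvd_antisymm (hn ▸ pow_dvd_pow 5 h3) (P.pow_dvd_card_of_pow_dvd_card (n := 2) h1)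

/-- **Burnside**: a Sylow subgroup of order 25 is not central in its normaliser -/
theorem LF.burn (h : LF G A) (D : Sylow 5 G) (hD : Nat.card D = 25) (h3 : 3 ∣ Nat.card G) :
    ¬ normalizer (D : Set G) ≤ centralizer (D : Set G) := fun hN => by
  have : Fact (Nat.Prime 3) := ⟨by norm_num⟩
  obtain ⟨R, hRn, h1⟩ : ∃ R : Subgroup G, R.Normal ∧ R.index = 25 :=
    ⟨_, MonoidHom.normal_ker _, (MonoidHom.ker_transferSylow_isComplement' D hN).symm.index_eq_card.trans hD⟩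
  obtain ⟨Q⟩ : Nonempty (Sylow 3 G) := inferInstance
  obtain ⟨n, hn⟩ := IsPGroup.iff_card.1 Q.isPGroup'
  have hn2 : n ≤ 2 := le_of_not_gt fun h1 => absurd
    (((pow_dvd_pow 3 h1).trans (hn ▸ card_subgroup_dvd_card _)).trans h.dvd) (by decide)
  have hq : ∀ g ∈ Q, g ^ 9 = 1 := fun g hg => orderOf_dvd_iff_pow_eq_one.1
    ((orderOf_dvd_of_pow_eq_one (congrArg Subtype.val (pow_card_eq_one' (x := (⟨g, hg⟩ : Q))))).trans
      (hn ▸ pow_dvd_pow 3 hn2))
  have h4 : (Q : Subgroup G) ≤ R := fun g hg => by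
    have h4 := pow_mem (R.pow_index_mem g) 4
    rwa [h1, ← pow_mul, show 25 * 4 = 9 * 11 + 1 from rfl, pow_succ, pow_mul, hq g hg, one_pow, one_mul] at h4
  have h5 := relIndex_dvd_card R (normalizer (Q : Set G))
  rw [← relIndex_sup_right, Q.normalizer_sup_eq_top' h4, relIndex_top_right, h1] at h5
  have h6 := SP.Mon.Odd.card_dvd_norm (A := normalizer (Q : Set G)) (V := Q) (c := 360) (fun _ h => h)
    fun x hx h0 => by simpa only [cc] using h.c3 x h0 (hq x hx)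
  have h8 := Q.pow_dvd_card_of_pow_dvd_card (n := 1) h3
  have h9 := h5.trans h6
  rw [hn] at h8 h9
  exact (by decide : ∀ n ≤ 2, 3 ^ 1 ∣ 3 ^ n → ¬ 25 ∣ (3 ^ n - 1) * 360) n hn2 h8 h9

section small

variable (h : LF G A) (h1 : 25 ∣ Nat.card G) (h2 : ¬ 125 ∣ Nat.card G)
include h h1 h2

theorem LF.good {D R : Sylow 5 G} (hne : D ≠ R) {y : G} (hD : y ∈ D) (hR : y ∈ R) (hy : y ≠ 1) :
    cc y ∣ 300 ∧ 3 ∣ cc y ∧ ¬ A y := by
  have h3 : ¬ cc y ∣ 500 := fun h3 => hne (h.syl_eq h3 (fun _ hg => comm25 (LF.card25 h1 h2 D) hg hD)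
    fun _ hg => comm25 (LF.card25 h1 h2 R) hg hR)
  have h4 : ¬ A y := fun h4 => h3 (h.cA y h4)
  have h5 := h.cB y (h.ord5 D hD hy) h4
  refine ⟨h5, by_contra fun h6 => h3 ?_, h4⟩
  exact (((Nat.Prime.coprime_iff_not_dvd Nat.prime_three).2 h6).symm.dvd_of_dvd_mul_left
    (show cc y ∣ 3 * 100 from h5)).trans (by decide)

/-- an element which centralises `y` and inverts `z` -/
theorem LF.inv {D R : Sylow 5 G} (hne : D ≠ R) {y z : G} (hD : y ∈ D) (hR : y ∈ R) (hy : y ≠ 1) (hz : z ∈ D)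
    (hA : A z) : ∃ s, s * y = y * s ∧ s * z * s⁻¹ = z⁻¹ := by
  classical
  obtain ⟨-, h3, h4⟩ := h.good h1 h2 hne hD hR hy
  have hc := LF.card25 h1 h2 D
  have hle : (D : Subgroup G) ≤ centralizer {y} := fun g hg => mem_centralizer_singleton_iff.2 (comm25 hc hg hD)
  have h5 := (h.sub (centralizer {y})).burn (D.subtype hle)
    ((Nat.card_congr (subgroupOfEquivOfLe hle).toEquiv).trans hc) h3
  obtain ⟨s, s1, s2⟩ := SetLike.not_le_iff_exists.1 h5
  have s3 : (s : G) * y = y * s := mem_centralizer_singleton_iff.1 s.2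
  have s4 : (s : G) * z * (s : G)⁻¹ ∈ D := (mem_normalizer_iff.1 s1 ⟨z, hle hz⟩).1 hz
  have z5 := h.ord z hA
  have s5 := h.un _ _ hA (h.conj s z hA) (comm25 hc s4 hz)
  have s6 : (s : G) * z * (s : G)⁻¹ ≠ z := fun e => s2 fun g hg => by
    have h6 : y ∉ zpowers z := fun h6 => by
      obtain ⟨k, hk⟩ := mem_zpowers_of z5 h6 hy
      obtain ⟨-, h7, -⟩ := h.good h1 h2 hne hz (hk ▸ zpow_mem hR k) (by rintro rfl; simp at z5)
      exact absurd (h7.trans (h.cA z hA)) (by decide)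
    have h7 := le25 (J := centralizer {(s : G)}) hc hz hD z5 h6
      (mem_centralizer_singleton_iff.2 (mul_inv_eq_iff_eq_mul.1 e).symm) (mem_centralizer_singleton_iff.2 s3.symm)
    exact Subtype.ext (mem_centralizer_singleton_iff.1 (h7 hg))
  rw [mem_zpowers_iff_mem_range_orderOf, z5] at s5
  obtain ⟨k, hk, e⟩ := Finset.mem_image.1 s5
  have z1 : z ^ 5 = 1 := by rw [← z5, pow_orderOf_eq_one]
  have sq : (s : G) * s * z * ((s : G) * s)⁻¹ = z ^ (k * k) := by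
    rw [pow_mul, e, conj_pow, e]
    group
  have s7 : (s : G) * s * y = y * (s * s) := by rw [mul_assoc, s3, ← mul_assoc, s3, mul_assoc]
  have i4 : z ^ 4 = z⁻¹ := eq_inv_of_mul_eq_one_left (by rw [← pow_succ, z1])
  have hk5 := Finset.mem_range.1 hk
  interval_cases k
  · rw [pow_zero, eq_comm, conj_eq_one_iff] at e
    rw [e, orderOf_one] at z5
    omega
  · exact (s6 (by rw [← e, pow_one])).elim
  · exact ⟨_, s7, sq.trans i4⟩
  · exact ⟨_, s7, sq.trans (by rw [show 3 * 3 = 5 + 4 from rfl, pow_add, z1, one_mul, i4])⟩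
  · exact ⟨_, s3, e.symm.trans i4⟩

/-- the elements of `D` which lie in a second Sylow subgroup generate one subgroup of order 5 -/
theorem LF.two {D R R' : Sylow 5 G} (hne : D ≠ R) (hne' : D ≠ R') {y u : G} (hD : y ∈ D) (hR : y ∈ R) (hy : y ≠ 1)
    (huD : u ∈ D) (huR : u ∈ R') : u ∈ zpowers y := by
  by_contra hn
  have hc := LF.card25 h1 h2 D
  obtain ⟨z, hz, hA⟩ := h.ex D hc
  have z5 := h.ord z hA
  have hu : u ≠ 1 := by
    rintro rfl
    exact hn (one_mem _)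
  obtain ⟨s, s1, s2⟩ := h.inv h1 h2 hne hD hR hy hz hA
  obtain ⟨t, t1, t2⟩ := h.inv h1 h2 hne' huD huR hu hz hA
  have h6 : y ∉ zpowers z := fun h6 => by
    obtain ⟨k, hk⟩ := mem_zpowers_of z5 h6 hy
    obtain ⟨-, h7, -⟩ := h.good h1 h2 hne hz (hk ▸ zpow_mem hR k) (by rintro rfl; simp at z5)
    exact absurd (h7.trans (h.cA z hA)) (by decide)
  have hz' : zpowers z ≤ D := zpowers_le.2 hz
  let J : Subgroup G :=
    { carrier := {d | d ∈ D ∧ s * d * s⁻¹ * d⁻¹ ∈ zpowers z}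
      one_mem' := ⟨one_mem _, by simp⟩
      mul_mem' := fun {a b} ha hb => ⟨mul_mem ha.1 hb.1, by
        have e := comm25 hc ha.1 (hz' hb.2)
        have e1 : s * (a * b) * s⁻¹ * (a * b)⁻¹ = s * a * s⁻¹ * a⁻¹ * (a * (s * b * s⁻¹ * b⁻¹) * a⁻¹) := by group
        rw [e1, e, mul_inv_cancel_right]
        exact mul_mem ha.2 hb.2⟩
      inv_mem' := fun {a} ha => ⟨inv_mem ha.1, by
        have e := comm25 hc (inv_mem ha.1) (inv_mem (hz' ha.2))
        have e1 : s * a⁻¹ * s⁻¹ * a⁻¹⁻¹ = a⁻¹ * (s * a * s⁻¹ * a⁻¹)⁻¹ * a := by group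
        rw [e1, e, inv_mul_cancel_right]
        exact inv_mem ha.2⟩ }
  have h7 : (D : Subgroup G) ≤ J := le25 hc hz hD z5 h6
    ⟨hz, by rw [s2]; exact mul_mem (inv_mem (mem_zpowers z)) (inv_mem (mem_zpowers z))⟩
    ⟨hD, by rw [s1, mul_inv_cancel_right, mul_inv_cancel]; exact one_mem _⟩
  obtain ⟨w, hw⟩ : ∃ w, w = s * u * s⁻¹ * u⁻¹ := ⟨_, rfl⟩
  have w1 : w ∈ zpowers z := hw ▸ (h7 huD).2
  have g1 : s * t * z = z * (s * t) := by
    have e : s * t * z * (s * t)⁻¹ = (s * (t * z * t⁻¹)⁻¹ * s⁻¹)⁻¹ := by group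
    rw [t2, inv_inv, s2, inv_inv] at e
    have e2 : s * t * z * (s * t)⁻¹ = s * (t * z * t⁻¹) * s⁻¹ := by group
    rw [t2, ← conj_inv, s2, inv_inv] at e2
    exact mul_inv_eq_iff_eq_mul.1 e2
  have g2 : Commute (s * t) w := by
    obtain ⟨k, rfl⟩ := w1
    exact Commute.zpow_right g1 k
  have g3 : s * t * u = w * u * (s * t) := by
    rw [hw, mul_assoc s t, t1]
    group
  have g4 : ∀ n : ℕ, (s * t) ^ n * u = w ^ n * u * (s * t) ^ n := fun n => by
    induction n with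
    | zero => simp
    | succ n ih =>
      rw [pow_succ', mul_assoc, ih, ← mul_assoc, ← mul_assoc, (g2.pow_right n).eq, mul_assoc (w ^ n), g3, pow_succ w]
      simp only [mul_assoc]
  have g5 : (s * t) ^ 500 = 1 := by
    obtain ⟨k, hk⟩ := h.cA z hA
    have e : (s * t) ^ cc z = 1 := congrArg Subtype.val
      (pow_card_eq_one' (x := (⟨s * t, mem_centralizer_singleton_iff.2 g1⟩ : centralizer ({z} : Set G))))
    rw [hk, pow_mul, e, one_pow]
  have g6 : (s * t) ^ 4 ∈ D := mem_syl (h.cA z hA) D (fun _ hg => comm25 hc hg hz) (Commute.pow_left g1 4).eq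
    (h.e5 _ (by rw [← pow_mul, g5]))
  have g7 := g4 4
  rw [comm25 hc g6 huD, mul_left_inj, eq_comm, mul_eq_right] at g7
  have g8 : w = 1 := by rw [← h.pow5 D (hz' w1), pow_succ, g7, one_mul]
  rw [g8, eq_comm, mul_inv_eq_one, mul_inv_eq_iff_eq_mul] at hw
  have g9 := le25 (J := centralizer {s}) hc hD huD (h.ord5 D hD hy) hn (mem_centralizer_singleton_iff.2 s1.symm)
    (mem_centralizer_singleton_iff.2 hw.symm) hz
  rw [mem_centralizer_singleton_iff] at g9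
  rw [← g9, mul_inv_cancel_right, eq_inv_iff_mul_eq_one, ← pow_two, ← orderOf_dvd_iff_pow_eq_one, z5] at s2
  omega

/-- **Sylow subgroups of order 25** -/
theorem LF.small (h3 : 3 ∣ Nat.card G) : ∃ n m, n * m = Nat.card G ∧ m ∣ 2000 ∧ 25 ∣ m ∧ m ≠ 25 ∧
    (n % 25 = 1 ∨ 2 ≤ n % 25 ∧ n % 25 ≤ 6 ∧ (n < 25 → Nat.card G ∣ 1200)) := by
  classical
  obtain ⟨D⟩ : Nonempty (Sylow 5 G) := inferInstance
  have hc := LF.card25 h1 h2 D
  obtain ⟨z, hz, hA⟩ := h.ex D hc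
  have hst : ∀ R : Sylow 5 G, ∀ d ∈ (D : Subgroup G) ⊓ stabilizer G R, d ∈ R := fun R d hd => by
    rw [R.stabilizer_eq_normalizer] at hd
    exact ((D.isPGroup'.inf_normalizer_sylow R).le hd).2
  have hsm : ∀ (g x : G) (R : Sylow 5 G), x ∈ g • R ↔ g⁻¹ * x * g ∈ R := fun g x R => by
    rw [← SetLike.mem_coe, Sylow.coe_smul, Set.mem_smul_set_iff_inv_smul_mem]
    simp
  refine ⟨Nat.card (Sylow 5 G), _, by rw [D.card_eq_index_normalizer, index_mul_card],
    h.norm_dvd D hz hA fun _ hg => comm25 hc hg hz, hc ▸ card_dvd_of_le le_normalizer, fun e => ?_, ?_⟩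
  · refine h.burn D hc h3 ((eq_of_le_of_card_ge le_normalizer (e.trans hc.symm).le).ge.trans fun a ha b hb => ?_)
    exact comm25 hc hb ha
  by_cases hg : ∃ y ∈ D, y ≠ 1 ∧ ∃ R : Sylow 5 G, D ≠ R ∧ y ∈ R
  · right
    obtain ⟨y, hD, hy, R, hne, hR⟩ := hg
    have y5 := h.ord5 D hD hy
    obtain ⟨c1, -, -⟩ := h.good h1 h2 hne hD hR hy
    have a1 : Nat.card D ∣ {Q : Sylow 5 G | y ∉ Q}.ncard := by
      refine H401.card_dvd_ncard (fun d hd Q hQ h4 => hQ ?_) fun Q hQ => eq_bot_iff.2 fun d hd => by_contra fun h4 => ?_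
      · rwa [hsm, mul_assoc, comm25 hc hD hd, inv_mul_cancel_left] at h4
      · obtain ⟨k, hk⟩ := mem_zpowers_of y5 (h.two h1 h2 hne (fun e : D = Q => hQ (e ▸ hD)) hD hR hy hd.1 (hst Q d hd)) h4
        exact hQ (hk ▸ zpow_mem (hst Q d hd) k)
    have hle : ∀ Q : Sylow 5 G, y ∈ Q → (Q : Subgroup G) ≤ centralizer {y} := fun Q hQ g hg =>
      mem_centralizer_singleton_iff.2 (comm25 (LF.card25 h1 h2 Q) hg hQ)
    have a2 : {Q : Sylow 5 G | y ∈ Q}.ncard ≤ 6 := by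
      refine (Nat.card_le_card_of_injective (fun Q : {Q : Sylow 5 G | y ∈ Q} => Q.1.subtype (hle Q.1 Q.2))
        fun P Q e => Subtype.ext (Sylow.subtype_injective e)).trans ?_
      have b1 := card_sylow_modEq_one 5 (centralizer ({y} : Set G))
      have b2 := (D.subtype (hle D hD)).card_dvd_index
      have b3 := (D.subtype (hle D hD) : Subgroup (centralizer ({y} : Set G))).card_mul_index
      rw [Sylow.coe_subtype, Nat.card_congr (subgroupOfEquivOfLe (hle D hD)).toEquiv, hc] at b3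
      have b4 := b2.trans (Nat.dvd_of_mul_dvd_mul_left (by norm_num) (show 25 * _ ∣ 25 * 12 from b3 ▸ c1))
      exact (by decide : ∀ k ≤ 12, k ∣ 12 → k % 5 = 1 % 5 → k ≤ 6) _ (Nat.le_of_dvd (by norm_num) b4) b4 b1
    have a3 : 1 < {Q : Sylow 5 G | y ∈ Q}.ncard := (Set.one_lt_ncard (Set.toFinite _)).2 ⟨D, hD, R, hR, hne⟩
    have a4 := Set.ncard_add_ncard_compl {Q : Sylow 5 G | y ∈ Q}
    rw [hc] at a1
    have a5 : {Q : Sylow 5 G | y ∈ Q}ᶜ = {Q : Sylow 5 G | y ∉ Q} := rfl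
    rw [a5] at a4
    refine ⟨by omega, by omega, fun a6 => ?_⟩
    have a7 : ∀ Q : Sylow 5 G, y ∈ Q := fun Q => by_contra fun hQ =>
      absurd ((Set.ncard_pos (Set.toFinite _)).2 ⟨Q, hQ⟩ : 0 < {Q : Sylow 5 G | y ∉ Q}.ncard) (by omega)
    have a8 : ∀ (g : G) (Q : Sylow 5 G), g * y * g⁻¹ ∈ Q := fun g Q => by simpa using (hsm g⁻¹ y Q).1 (a7 _)
    rw [← card_top]
    exact (card_norm y5 fun g _ => h.two h1 h2 hne hne hD hR hy (a8 g D) (a8 g R)).trans (Nat.mul_dvd_mul_left 4 c1)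
  · left
    have a1 : Nat.card D ∣ ({D}ᶜ : Set (Sylow 5 G)).ncard := by
      refine H401.card_dvd_ncard (fun d hd Q hQ h4 => hQ ?_) fun Q hQ => eq_bot_iff.2 fun d hd => by_contra fun h4 => ?_
      · exact (smul_left_cancel d (h4.trans (Sylow.smul_eq_iff_mem_normalizer.2 (le_normalizer hd)).symm) :)
      · exact hg ⟨d, hd.1, h4, Q, fun e => hQ e.symm, hst Q d hd⟩
    have a4 := Set.ncard_add_ncard_compl ({D} : Set (Sylow 5 G))
    rw [Set.ncard_singleton] at a4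
    rw [hc] at a1
    omega

end small

end Cfsg.Agent.SM.SpN
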