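import Cfsg.Agent.SM.SpN.Twenty
import Cfsg.Agent.SM.Sp.Glue
import Cfsg.Agent.SM.Rig

/-!
# SM (S3570), the socle `HS`: the only row is `M22` on 176 points, with at most two overgroups (helper95)

* `LH` : the list of the engine, `RH` : the table;
* `bnd_hs` : `Bnd fHS RH` from `Lst K LH`.
-/

set_option autoImplicit false

namespace Cfsg.Agent.SM.SpN

open Cfsg Subgroup MulAction Equiv Cfsg.Agent.SM.Sp

/-- the pairs left by the engine -/
def LH : List (ℕ × ℕ) := [(443520, 176), (443520, 3080), (443520, 3696), (443520, 4620), (443520, 4928), (443520, 6160),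
  (443520, 7392), (443520, 9240), (443520, 9856), (443520, 12320), (443520, 18480), (443520, 22176), (443520, 24640)]

/-- the table of `HS` -/
def RH : Tab := fun t n k => t = 443520 ∧ n = 176 ∧ k = 2

theorem lh_spec : ∀ p ∈ LH, p.1 = 443520 ∧ (p.2 = 176 ∨ p.2 = 22176 ∨
    ∃ c ∈ [120, 90, 60, 45, 144, 96, 72, 48, 36, 24, 18], c * p.2 = 443520) := by decide

variable {Ω : Type} [Fintype Ω] [DecidableEq Ω] {X H T M S : Subgroup (Perm Ω)}

theorem idx (u : Up X H T M S) (h : HF S) (hT : Nat.card T = 443520) : (T.subgroupOf S).index = 100 := by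
  have h1 := (T.subgroupOf S).card_mul_index
  rw [up_card u, hT, h.card] at h1
  omega

theorem row (u : Up X H T M S) (hS : Spor.IsoHS S) (hL : Lst S LH) : Nat.card T = 443520 ∧ Fintype.card Ω = 176 := by
  obtain ⟨h1, h2⟩ := lh_spec _ (up_lst u hL)
  have h := hf_of hS
  obtain ⟨a⟩ : Nonempty Ω := Fintype.card_pos_iff.1 (lt_of_lt_of_le two_pos u.two)
  refine ⟨h1, h2.resolve_right ?_⟩
  rintro (h2 | ⟨c, hc, h2⟩)
  · obtain ⟨f, hf, h3⟩ := h.emb (idx u h h1)
    refine no20 (u.fac a) ((subgroupOfEquivOfLe u.le).symm.trans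
      ((MulEquiv.subgroupCongr h3.symm).trans (MonoidHom.ofInjective hf).symm)) ?_
    have h4 := Fac.card_mul T (M ⊓ stabilizer (Perm Ω) a)
    have h5 : Fintype.card Ω = 22176 := h2
    have h6 : Nat.card T = 443520 := h1
    rw [u.relIndex, h5, h6] at h4
    omega
  · refine h.not_card ((M ⊓ stabilizer (Perm Ω) a).subgroupOf S) hc ?_
    have h3 := ((M ⊓ stabilizer (Perm Ω) a).subgroupOf S).card_mul_index
    have h4 : c * Fintype.card Ω = 443520 := h2
    rw [up_index u, h.card] at h3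
    refine Nat.eq_of_mul_eq_mul_right (lt_of_lt_of_le two_pos u.two) ?_
    rw [h3, mul_assoc, h4]
    rfl

/-- the identification with the model carries `T` to the image of `f` -/
theorem exists_iso (u : Up X H T M S) (hS : Spor.IsoHS S) (hT : Nat.card T = 443520) {f : Spor.M22 →* Spor.HS}
    (hf : Function.Injective f) : ∃ (φ : S ≃* Spor.HS) (ψ : T ≃* Spor.M22), ∀ t (ht : t ∈ T),
      φ ⟨t, u.le ht⟩ = f (ψ ⟨t, ht⟩) := by
  have h := hf_of hS
  obtain ⟨e⟩ := hS
  obtain ⟨g, hg⟩ := h.conj (f := e.symm.toMonoidHom.comp f) (e.symm.injective.comp hf) (idx u h hT)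
  let φ : S ≃* Spor.HS := (MulAut.conj g).trans e
  have h1 : (φ.toMonoidHom.comp (inclusion u.le)).range = f.range := by
    ext y
    constructor
    · rintro ⟨t, rfl⟩
      obtain ⟨m, hm⟩ := (hg ⟨t, u.le t.2⟩).1 t.2
      exact ⟨m, e.symm_apply_eq.1 hm⟩
    · rintro ⟨m, rfl⟩
      have h2 := (hg (g⁻¹ * e.symm (f m) * g)).2 ⟨m, by simp [mul_assoc]⟩
      refine ⟨⟨_, h2⟩, ?_⟩
      show e (g * (g⁻¹ * e.symm (f m) * g) * g⁻¹) = f m
      simp [mul_assoc]
  have h2 : Function.Injective (φ.toMonoidHom.comp (inclusion u.le)) := φ.injective.comp (inclusion_injective u.le)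
  refine ⟨φ, (MonoidHom.ofInjective h2).trans ((MulEquiv.subgroupCongr h1).trans (MonoidHom.ofInjective hf).symm),
    fun t ht => ?_⟩
  exact (MonoidHom.apply_ofInjective_symm hf
    (MulEquiv.subgroupCongr h1 (MonoidHom.ofInjective h2 ⟨t, ht⟩))).symm

theorem index_inn : (MulAut.conj : Spor.M22 →* MulAut Spor.M22).range.index = 2 := by
  have h1 := (MulAut.conj : Spor.M22 →* MulAut Spor.M22).range.card_mul_index
  have h2 : Function.Injective (MulAut.conj : Spor.M22 →* MulAut Spor.M22) := by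
    have := SporadicA.MathieuRecog.simple_M22
    rcases (MonoidHom.normal_ker (MulAut.conj : Spor.M22 →* MulAut Spor.M22)).eq_bot_or_eq_top with h | h
    · exact (MonoidHom.ker_eq_bot_iff _).1 h
    · let _ : CommGroup Spor.M22 := { (inferInstance : Group Spor.M22) with
        mul_comm := fun a b => by
          have h3 : MulAut.conj a b = b := DFunLike.congr_fun (MonoidHom.mem_ker.1 (h ▸ mem_top a)) b
          exact mul_inv_eq_iff_eq_mul.1 h3 }
      exact absurd (card_m22 ▸ IsSimpleGroup.prime_card (α := Spor.M22)) (by norm_num)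
  rw [← Nat.card_congr (MonoidHom.ofInjective h2).toEquiv, card_m22, H856.AutM22.card_aut] at h1
  omega

/-- **The box of `HS`.** -/
theorem bnd_hs (hL : ∀ (K : Type) [Group K] [Finite K], Spor.IsoHS K → Lst K LH) : Bnd fHS RH := by
  rintro Ω _ _ X H T ⟨M₀, S₀, u₀, hS₀⟩
  obtain ⟨hT, hn⟩ := row u₀ hS₀ (hL _ hS₀)
  refine ⟨2, ⟨hT, hn, rfl⟩, ?_⟩
  have h := hf_of (K := Spor.HS) ⟨MulEquiv.refl _⟩
  have := h.finite
  obtain ⟨f, hf⟩ := h.m22
  obtain ⟨-, e, -⟩ := exists_iso u₀ hS₀ hT hf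
  obtain ⟨a⟩ : Nonempty Ω := Fintype.card_pos_iff.1 (by omega)
  have hc : Nat.card (MulAut Spor.M22 ⧸ (MulAut.conj : Spor.M22 →* MulAut Spor.M22).range) = 2 := index_inn
  have : Finite (MulAut Spor.M22 ⧸ (MulAut.conj : Spor.M22 →* MulAut Spor.M22).range) :=
    Nat.finite_of_card_ne_zero (by omega)
  rw [← hc, ← Set.ncard_univ]
  refine ncard_le_of_col Set.finite_univ (fun M c => ∃ S, ∃ u : Up X H T M S, ∃ φ : S ≃* Spor.HS,
    ∀ t (ht : t ∈ T), φ ⟨t, u.le ht⟩ = f (c.out (e ⟨t, ht⟩))) ?_ ?_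
  · rintro M ⟨S, u, hS⟩
    obtain ⟨φ, ψ, h1⟩ := exists_iso u hS hT hf
    obtain ⟨⟨_, m, rfl⟩, h2⟩ := QuotientGroup.mk_out_eq_mul (MulAut.conj : Spor.M22 →* MulAut Spor.M22).range
      (e.symm.trans ψ)
    refine ⟨QuotientGroup.mk (e.symm.trans ψ), Set.mem_univ _, S, u, φ.trans (MulAut.conj (f (ψ (e.symm m)))), fun t ht => ?_⟩
    rw [h2, MulEquiv.trans_apply, h1 t ht]
    simp
  · rintro M₁ - M₂ - c - ⟨S₁, u₁, φ₁, h1⟩ ⟨S₂, u₂, φ₂, h2⟩
    let ι : T →* Spor.HS := f.comp ((c.out : MulAut Spor.M22).toMonoidHom.comp e.toMonoidHom)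
    have hι : Function.Injective ι := hf.comp ((c.out : MulAut Spor.M22).injective.comp e.injective)
    have hA : Nat.card (((M₁ ⊓ stabilizer (Perm Ω) a).subgroupOf T).map ι) = 2520 := by
      have h3 := ((M₁ ⊓ stabilizer (Perm Ω) a).subgroupOf T).card_mul_index
      have h4 : ((M₁ ⊓ stabilizer (Perm Ω) a).subgroupOf T).index = 176 := (u₁.relIndex a).trans hn
      rw [h4, hT] at h3
      rw [card_map_of_injective hι]
      omega
    have hX : f.range.index = 100 := by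
      have h3 := f.range.card_mul_index
      rw [← Nat.card_congr (MonoidHom.ofInjective hf).toEquiv, card_m22, h.card] at h3
      omega
    have key : ∀ {M S : Subgroup (Perm Ω)} (u : Up X H T M S) (φ : S ≃* Spor.HS),
        (∀ t (ht : t ∈ T), φ ⟨t, u.le ht⟩ = f (c.out (e ⟨t, ht⟩))) →
        ((M₁ ⊓ stabilizer (Perm Ω) a).subgroupOf T).map ι ≤
          ((M ⊓ stabilizer (Perm Ω) a).subgroupOf S).map φ.toMonoidHom ∧
        Nat.card (((M ⊓ stabilizer (Perm Ω) a).subgroupOf S).map φ.toMonoidHom) = 252000 := fun {M S} u φ hφ => by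
      refine ⟨?_, ?_⟩
      · rintro _ ⟨t, ht, rfl⟩
        exact ⟨⟨t, u.le t.2⟩, ⟨u.socM.le (u.le t.2), ht.2⟩, hφ t t.2⟩
      · have h3 := ((M ⊓ stabilizer (Perm Ω) a).subgroupOf S).card_mul_index
        rw [up_index u, hn, Nat.card_congr φ.toEquiv, h.card] at h3
        rw [card_map_of_injective φ.injective]
        omega
    have h3 := h.uniq hX (by rintro _ ⟨t, -, rfl⟩; exact ⟨_, rfl⟩) hA (key u₁ φ₁ h1).1 (key u₂ φ₂ h2).1
      (key u₁ φ₁ h1).2 (key u₂ φ₂ h2).2 (Rd.fa_map φ₁ (up_fa u₁ a)).lcY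
    refine u₁.rig_model u₂ φ₁ φ₂ (MulEquiv.refl _) (fun t ht => (h1 t ht).trans (h2 t ht).symm) (a := a) (b := a)
      fun s s' hs e' => ?_
    obtain ⟨r, hr, h4⟩ := h3.le ⟨s, ⟨u₁.socM.le s.2, hs⟩, rfl⟩
    obtain rfl : r = s' := φ₂.injective (h4.trans e')
    exact hr.2

end Cfsg.Agent.SM.SpN
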