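import Cfsg.Agent.SM.SpN.Five
import Cfsg.Agent.SM.Mat.Geo
import Cfsg.Agent.SM.Mat.Tool
import Cfsg.Agent.H856.AutM22
import Cfsg.Agent.H911.S8.MIdx

/-!
# SM (S3570): the normaliser of a subgroup of order 5 is not maximal in `M22`, `M22.2` (helper95)

* `no20` : `T ≅ M22` implies `|T ⊓ B| ≠ 20`.
-/

set_option autoImplicit false

namespace Cfsg.Agent.SM.SpN

open Cfsg Subgroup MulAction Equiv Cfsg.Agent.SM.Mat Cfsg.Agent.H856.AutM22 Cfsg.Agent.BabyM.DuadGen
open scoped Pointwise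

attribute [local instance] f5

theorem exists_duad (x : Spor.M22) (hx : orderOf x = 5) : ∃ K : Subgroup Spor.M22, K.index = 231 ∧
    (∀ g, g * x * g⁻¹ ∈ zpowers x → g ∈ K) ∧ ∀ α : MulAut Spor.M22, α x ∈ zpowers x → ∀ g ∈ K, α g ∈ K := by
  classical
  have x5 : orderOf (x : Perm GolayPt) = 5 := (orderOf_coe x).trans hx
  have hd : ∀ g : Spor.M22, (g : Perm GolayPt) ∈ duad := fun g => mem_duad.2 ⟨g.2.1.1, Or.inl ⟨g.2.1.2, g.2.2⟩⟩
  let U : Finset GolayPt := Finset.univ \ {none, some 0}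
  have hU : ∀ τ ∈ duad, ∀ p ∈ U, τ p ∈ U := fun τ hτ p hp => by
    simp only [U, Finset.mem_sdiff, Finset.mem_univ, true_and, Finset.mem_insert, Finset.mem_singleton, not_or] at hp ⊢
    rcases (mem_duad.1 hτ).2 with ⟨h1, h2⟩ | ⟨h1, h2⟩
    · exact ⟨fun e => hp.1 (τ.injective (e.trans h1.symm)), fun e => hp.2 (τ.injective (e.trans h2.symm))⟩
    · exact ⟨fun e => hp.2 (τ.injective (e.trans h2.symm)), fun e => hp.1 (τ.injective (e.trans h1.symm))⟩
  have h1 := fxs_mod' (by norm_num) x5 (A := U) (hU _ (hd x))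
  have h2 := fxs5 x.2.1.1 x5 U
  have h3 : U.card = 22 := by
    rw [Finset.card_sdiff_of_subset (Finset.subset_univ _), card_pt, Finset.card_pair (by simp)]
  obtain ⟨a, b, hab, hF⟩ := Finset.card_eq_two.1 (show (fxs (zpowers (x : Perm GolayPt)) U).card = 2 by omega)
  have ha : a ∈ U := fxs_subset _ _ (hF ▸ Finset.mem_insert_self a {b})
  have hb : b ∈ U := fxs_subset _ _ (hF ▸ Finset.mem_insert_of_mem (Finset.mem_singleton_self b))
  simp only [U, Finset.mem_sdiff, Finset.mem_univ, true_and, Finset.mem_insert, Finset.mem_singleton, not_or] at ha hb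
  have key : ∀ τ ∈ duad, τ * x * τ⁻¹ ∈ zpowers (x : Perm GolayPt) → τ • ({a, b} : Finset GolayPt) = {a, b} :=
    fun τ hτ h4 => by
      rw [← hF]
      refine smul_eq_of_inv fun p hp => mem_fxs_zpowers.2 ⟨hU τ hτ p (fxs_subset _ _ hp), ?_⟩
      obtain ⟨k, hk⟩ := mem_zpowers_of x5 h4 fun e => by
        rw [conj_eq_one_iff] at e
        rw [e, orderOf_one] at x5
        omega
      have h5 := (mem_fxs.1 hp).2 _ (zpow_mem_zpowers (x : Perm GolayPt) k)
      rw [← hk]
      show (τ * x * τ⁻¹) ^ k • τ • p = τ • p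
      rw [conj_zpow, mul_smul, mul_smul, inv_smul_smul, h5]
  refine ⟨stabilizer Spor.M22 ({a, b} : Finset GolayPt), H911.S8.duad_index hab ha.1 ha.2 hb.1 hb.2,
    fun g hg => key g (hd g) (by obtain ⟨k, hk⟩ := hg; exact ⟨k, congrArg Subtype.val hk⟩), fun α hα g hg => ?_⟩
  have h4 := key _ (tau_mem α) (by
    obtain ⟨k, hk⟩ := hα
    exact ⟨k, (congrArg Subtype.val hk).trans (tau_spec α x)⟩)
  have h5 : (g : Perm GolayPt) • ({a, b} : Finset GolayPt) = {a, b} := hg
  show (α g : Perm GolayPt) • ({a, b} : Finset GolayPt) = {a, b}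
  rw [tau_spec, mul_smul, mul_smul, inv_smul_eq_iff.2 h4.symm, h5, h4]

theorem mem_of_twenty {G : Type} [Group G] [Finite G] (h : Nat.card G = 20) {x y : G} (hx : orderOf x = 5)
    (hy : orderOf y = 5) : y ∈ zpowers x := by
  have := syl_one (G := G) (c := 4) (h ▸ by decide) dvd_rfl
  have hi : ∀ z : G, orderOf z = 5 → Nat.card (zpowers z) = 5 ^ (Nat.card G).factorization 5 := fun z hz => by
    rw [Nat.card_zpowers, hz, h]
    decide +kernel
  have e : zpowers y = zpowers x :=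
    congrArg Sylow.toSubgroup (Subsingleton.elim (Sylow.ofCard _ (hi y hy)) (Sylow.ofCard _ (hi x hx)))
  exact e ▸ mem_zpowers y

theorem no20 {Γ : Type} [Group Γ] [Finite Γ] {M S H T B : Subgroup Γ} (f : Fac M S H T B) (e : T ≃* Spor.M22) :
    Nat.card ↥(T ⊓ B) ≠ 20 := fun hA => by
  obtain ⟨x, hx⟩ := exists_prime_orderOf_dvd_card' (G := ↥(T ⊓ B)) 5 (by rw [hA]; decide)
  have x5 : orderOf (x : Γ) = 5 := (orderOf_coe x).trans hx
  let t : T := ⟨x, x.2.1⟩
  obtain ⟨K, h1, h2, h3⟩ := exists_duad (e t) ((e.orderOf_eq t).trans ((orderOf_coe t).symm.trans x5))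
  have h4 : ∀ g ∈ H ⊓ B, ∀ u : T, (u : Γ) = g * x * g⁻¹ → e u ∈ zpowers (e t) := fun g hg u hu => by
    obtain ⟨k, hk⟩ := mem_of_twenty hA hx (y := ⟨_, f.conjA hg x.2⟩)
      ((orderOf_coe _).symm.trans (((MulAut.conj g).orderOf_eq x).trans x5))
    refine ⟨k, (map_zpow e t k).symm.trans (congrArg e (Subtype.ext ?_))⟩
    rw [hu]
    exact congrArg Subtype.val hk
  have h5 : Nat.card ((K.comap e.toMonoidHom).map T.subtype) = 1920 := by
    have h6 := (K.comap e.toMonoidHom).card_mul_index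
    rw [index_comap_of_surjective K e.surjective, h1, Nat.card_congr e.toEquiv, card_m22] at h6
    rw [card_map_of_injective T.subtype_injective]
    omega
  rcases f.mid (K := (K.comap e.toMonoidHom).map T.subtype) (fun a ha => ⟨⟨a, ha.1⟩, h2 (e ⟨a, ha.1⟩) (by
      rw [← map_inv, ← map_mul, ← map_mul]
      exact h4 a ⟨f.asH.le ha.1, ha.2⟩ _ rfl), rfl⟩) (map_subtype_le _) (by
      rintro g hg _ ⟨u, hu, rfl⟩
      have h6 := h3 ((e.symm.trans (f.asH.aut ⟨g, hg.1⟩)).trans e) (by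
        rw [MulEquiv.trans_apply, MulEquiv.trans_apply, e.symm_apply_apply]
        exact h4 g hg _ rfl) (e u) hu
      rw [MulEquiv.trans_apply, MulEquiv.trans_apply, e.symm_apply_apply] at h6
      exact ⟨_, h6, rfl⟩) with h6 | h6
  · rw [h6, hA] at h5
    omega
  · rw [h6, Nat.card_congr e.toEquiv, card_m22] at h5
    omega

end Cfsg.Agent.SM.SpN
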